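import Mathlib
import Cfsg.Agent.Lib.PStableControl.Control
import Cfsg.Agent.Lib.Fusion.Group

/-!
`p`-stability of a group and of its fusion system on a Sylow subgroup agree.
-/

set_option autoImplicit false
set_option linter.unusedSectionVars false

namespace CfsgLib.PStableControl

open CfsgLib CfsgLib.Local Cfsg Cfsg.FusionSystem
open scoped commutatorElement

universe u
variable {G : Type u} [Group G]

/-- The condition on fully normalized subgroups. -/
def FusionPStable (p : ℕ) (S : Subgroup G) : Prop :=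
  ∀ Q : Subgroup G, (groupFusionSystem S).IsFullyNormalized Q →
    ∀ χ : MulAut ↥Q, χ ∈ (groupFusionSystem S).autGroup Q →
      (∀ a : ↥Q, (χ a⁻¹) * a * (χ a⁻¹) * (χ (χ a)) = 1) →
        χ ∈ ((Cfsg.pCore p ↥((groupFusionSystem S).autGroup Q)).map
          ((groupFusionSystem S).autGroup Q).subtype : Subgroup (MulAut ↥Q))

theorem quad_of_pointwise [Finite G] {V : Subgroup G} {a : G} (ha : a ∈ Subgroup.normalizer (V : Set G))
    (h : ∀ v ∈ V, a * (a * v * a⁻¹ * v⁻¹) * a⁻¹ = a * v * a⁻¹ * v⁻¹) :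
    ⁅⁅V, Subgroup.zpowers a⁆, Subgroup.zpowers a⁆ = ⊥ := by
  set F := V ⊓ Subgroup.centralizer {a} with hF
  have hbase : ∀ v ∈ V, ⁅v, a⁆ ∈ F := by
    intro v hv
    have hin : ⁅v, a⁆ ∈ V := by
      rw [commutatorElement_def, show v * a * v⁻¹ * a⁻¹ = v * (a * v⁻¹ * a⁻¹) by group]
      exact mul_mem hv ((Subgroup.mem_normalizer_iff.1 ha _).1 (inv_mem hv))
    refine Subgroup.mem_inf.2 ⟨hin, ?_⟩
    rw [← commutatorElement_inv, inv_mem_iff, Subgroup.mem_centralizer_singleton_iff, commutatorElement_def]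
    exact (mul_inv_eq_iff_eq_mul.1 (h v hv)).symm
  have h1 : ⁅V, Subgroup.zpowers a⁆ ≤ F := by
    rw [Subgroup.commutator_le]
    intro w hw z hz
    obtain ⟨n, rfl⟩ := ((isOfFinOrder_of_finite a).mem_powers_iff_mem_zpowers).2 hz
    show ⁅w, a ^ n⁆ ∈ F
    induction n with
    | zero => simp [one_mem]
    | succ n ih =>
      have e1 : ⁅w, a ^ (n + 1)⁆ = ⁅w, a⁆ * (a * ⁅w, a ^ n⁆ * a⁻¹) := by
        simp only [commutatorElement_def, pow_succ']; group
      have hf := ih (pow_mem (Subgroup.mem_zpowers _) n)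
      rw [e1, ← Subgroup.mem_centralizer_singleton_iff.1 hf.2, mul_inv_cancel_right]
      exact mul_mem (hbase w hw) hf
  rw [eq_bot_iff]
  refine (Subgroup.commutator_mono h1 le_rfl).trans ?_
  rw [Subgroup.commutator_le]
  intro w hw z hz
  obtain ⟨n, rfl⟩ := Subgroup.mem_zpowers_iff.1 hz
  rw [Subgroup.mem_bot, commutatorElement_eq_one_iff_commute]
  exact (show Commute w a from Subgroup.mem_centralizer_singleton_iff.1 hw.2).zpow_right n

theorem quad_iff_aut {Q : Subgroup G} {χ : MulAut ↥Q} {g : G} (hg : ∀ x : Q, ((χ x : Q) : G) = g * x * g⁻¹) :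
    (∀ a : ↥Q, (χ a⁻¹) * a * (χ a⁻¹) * (χ (χ a)) = 1) ↔
      ∀ v ∈ Q, g * (g * v * g⁻¹ * v⁻¹) * g⁻¹ = g * v * g⁻¹ * v⁻¹ := by
  have key : ∀ a : Q, ((((χ a⁻¹) * a * (χ a⁻¹) * (χ (χ a)) : Q)) : G) =
      g * ((a : G)⁻¹ * g⁻¹ * a * g * (a : G)⁻¹ * g * a * g⁻¹) * g⁻¹ := by
    intro a
    simp only [Subgroup.coe_mul, hg, Subgroup.coe_inv]
    group
  have key2 : ∀ v : G, v * g⁻¹ * v⁻¹ * g * v * g * v⁻¹ * g⁻¹ = 1 ↔
      g * (g * v * g⁻¹ * v⁻¹) * g⁻¹ = g * v * g⁻¹ * v⁻¹ := by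
    intro v
    rw [← mul_inv_eq_one (a := g * (g * v * g⁻¹ * v⁻¹) * g⁻¹)]
    have e : g * (g * v * g⁻¹ * v⁻¹) * g⁻¹ * (g * v * g⁻¹ * v⁻¹)⁻¹ =
        g * (v * g⁻¹ * v⁻¹ * g * v * g * v⁻¹ * g⁻¹)⁻¹⁻¹⁻¹ * g⁻¹ := by group
    rw [e, inv_inv, conj_eq_one_iff, inv_eq_one]
  constructor
  · intro h v hv
    have h1 := congrArg Subtype.val (h ⟨v⁻¹, inv_mem hv⟩)
    rw [key] at h1
    simp only [inv_inv, Subgroup.coe_one, conj_eq_one_iff] at h1
    exact (key2 v).1 h1
  · intro h a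
    refine Subtype.ext ?_
    rw [key, Subgroup.coe_one, conj_eq_one_iff]
    have h1 := (key2 (a : G)⁻¹).2 (h _ (inv_mem a.2))
    rw [inv_inv] at h1
    exact h1

/-- The automiser as a quotient of the normalizer. -/
theorem exists_autEquiv {S Q : Subgroup G} (hQ : Q ≤ S) :
    ∃ e : (↥(Subgroup.normalizer (Q : Set G)) ⧸ (Subgroup.centralizer (Q : Set G)).subgroupOf
        (Subgroup.normalizer (Q : Set G))) ≃* ↥((groupFusionSystem S).autGroup Q),
      ∀ (n : ↥(Subgroup.normalizer (Q : Set G))) (x : Q),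
        ((((e (QuotientGroup.mk n)) : MulAut Q) x : Q) : G) = (n : G) * x * (n : G)⁻¹ := by
  set N := Subgroup.normalizer (Q : Set G) with hN
  let c := (Q.normalizerMonoidHom).codRestrict ((groupFusionSystem S).autGroup Q) fun n => by
    rw [autGroup_groupFusionSystem hQ]
    exact mem_autInducedBy_iff.2 ⟨(n : G), trivial, n.2, fun x => rfl⟩
  have hc : Function.Surjective c := by
    rintro ⟨χ, hχ⟩
    rw [autGroup_groupFusionSystem hQ] at hχ
    obtain ⟨g, -, hgN, h⟩ := mem_autInducedBy_iff.1 hχ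
    exact ⟨⟨g, hgN⟩, Subtype.ext (MulEquiv.ext fun x => Subtype.ext (h x).symm)⟩
  have hk : c.ker = (Subgroup.centralizer (Q : Set G)).subgroupOf N := by
    rw [MonoidHom.ker_codRestrict, Subgroup.normalizerMonoidHom_ker]
  exact ⟨(QuotientGroup.quotientMulEquivOfEq hk.symm).trans (QuotientGroup.quotientKerEquivOfSurjective c hc),
    fun n x => rfl⟩

theorem pCore_mem_iff_equiv {A B : Type*} [Group A] [Group B] {p : ℕ} [Fact p.Prime] [Finite A] [Finite B]
    (e : A ≃* B) (a : A) : e a ∈ pCore p B ↔ a ∈ pCore p A := by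
  constructor
  · intro h
    have h1 : (pCore p B).map e.symm.toMonoidHom ≤ pCore p A :=
      le_pCore (hN := Subgroup.Normal.map inferInstance _ e.symm.surjective) ((isPGroup_pCore p).map _)
    simpa using h1 ⟨_, h, rfl⟩
  · intro h
    exact (le_pCore (hN := Subgroup.Normal.map inferInstance _ e.surjective) ((isPGroup_pCore p).map _) :
      (pCore p A).map e.toMonoidHom ≤ pCore p B) ⟨_, h, rfl⟩

variable [Finite G] {p : ℕ} [Fact p.Prime]

theorem isNormalizerPStable_iff_fusionPStable (P : Sylow p G) :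
    IsNormalizerPStable p G ↔ FusionPStable p (P : Subgroup G) := by
  constructor
  · intro hst Q hQ χ hχ hquad
    obtain ⟨e, he⟩ := exists_autEquiv hQ.1
    obtain ⟨q, hq⟩ := e.surjective ⟨χ, hχ⟩
    obtain ⟨n, rfl⟩ := QuotientGroup.mk_surjective q
    have hg : ∀ x : Q, ((χ x : Q) : G) = (n : G) * x * (n : G)⁻¹ := fun x => by
      rw [← he n x, hq]
    have h1 := hst Q (P.2.to_le hQ.1) n n.2 (quad_of_pointwise n.2 ((quad_iff_aut hg).1 hquad))
    exact ⟨⟨χ, hχ⟩, hq ▸ (pCore_mem_iff_equiv e _).2 h1, rfl⟩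
  · intro hst R hR r hr hq
    obtain ⟨T, hRT⟩ := hR.exists_le_sylow
    obtain ⟨y, hy⟩ := exists_conj_mem_sylow P T.2
    have hR' : R.map (MulAut.conj y).toMonoidHom ≤ (P : Subgroup G) := by
      rintro _ ⟨x, hx, rfl⟩; exact hy x (hRT hx)
    obtain ⟨Q, hRQ, hQ⟩ := exists_isFullyNormalized (F := groupFusionSystem (P : Subgroup G)) hR'
    obtain ⟨-, -, z, hz⟩ := isConj_groupFusionSystem_iff.1 hRQ
    rw [Subgroup.map_map] at hz
    set h := z * y with hh
    have hmap : R.map (MulAut.conj h).toMonoidHom = Q := by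
      rw [← hz]
      congr 1
      ext x
      simp [hh, mul_assoc]
    have hmemQ : ∀ {x : G}, x ∈ R ↔ h * x * h⁻¹ ∈ Q := fun {x} => by
      rw [← hmap]
      exact ⟨fun hx => ⟨x, hx, rfl⟩, fun ⟨w, hw, e⟩ => by rwa [← (MulAut.conj h).injective e]⟩
    have hNQ : ∀ n ∈ Subgroup.normalizer (Q : Set G), h⁻¹ * n * h ∈ Subgroup.normalizer (R : Set G) := fun n hn =>
      mem_normalizer_of_map_conj_eq (Subgroup.eq_of_le_of_card_ge (map_conj_le fun x hx => by
        rw [hmemQ, show h * (h⁻¹ * n * h * x * (h⁻¹ * n * h)⁻¹) * h⁻¹ = n * (h * x * h⁻¹) * n⁻¹ by group]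
        exact (Subgroup.mem_normalizer_iff.1 hn _).1 (hmemQ.1 hx))
        (Subgroup.card_map_of_injective (MulAut.conj (h⁻¹ * n * h)).injective).ge)
    set g := h * r * h⁻¹ with hg
    have hgN : g ∈ Subgroup.normalizer (Q : Set G) :=
      mem_normalizer_of_map_conj_eq (Subgroup.eq_of_le_of_card_ge (map_conj_le fun x hx => by
        obtain ⟨w, hw, rfl⟩ := hmap.ge hx
        show g * (h * w * h⁻¹) * g⁻¹ ∈ Q
        rw [hg, show h * r * h⁻¹ * (h * w * h⁻¹) * (h * r * h⁻¹)⁻¹ = h * (r * w * r⁻¹) * h⁻¹ by group]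
        exact hmemQ.1 ((Subgroup.mem_normalizer_iff.1 hr w).1 hw))
        (Subgroup.card_map_of_injective (MulAut.conj g).injective).ge)
    obtain ⟨e, he⟩ := exists_autEquiv hQ.1
    set qg : _ ⧸ (Subgroup.centralizer (Q : Set G)).subgroupOf (Subgroup.normalizer (Q : Set G)) :=
      QuotientGroup.mk (⟨g, hgN⟩ : Subgroup.normalizer (Q : Set G))
    have hquadQ : ∀ v ∈ Q, g * (g * v * g⁻¹ * v⁻¹) * g⁻¹ = g * v * g⁻¹ * v⁻¹ := by
      intro v hv
      obtain ⟨w, hw, rfl⟩ := hmap.ge hv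
      have h1 := congrArg (fun t => h * t * h⁻¹) (Quadratic.quad_pointwise hq w hw)
      calc g * (g * (h * w * h⁻¹) * g⁻¹ * (h * w * h⁻¹)⁻¹) * g⁻¹
          = h * (r * (r * w * r⁻¹ * w⁻¹) * r⁻¹) * h⁻¹ := by rw [hg]; group
        _ = h * (r * w * r⁻¹ * w⁻¹) * h⁻¹ := h1
        _ = _ := by rw [hg]; simp only [MulEquiv.coe_toMonoidHom, MulAut.conj_apply]; group
    obtain ⟨χ', hχ', hχe⟩ := hst Q hQ (e qg : MulAut Q) (e qg).2 ((quad_iff_aut (he ⟨g, hgN⟩)).2 hquadQ)
    have hqg : qg ∈ pCore p _ := (pCore_mem_iff_equiv e qg).1 (by rwa [← Subtype.ext hχe])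
    let f := QuotientGroup.lift ((Subgroup.centralizer (Q : Set G)).subgroupOf (Subgroup.normalizer (Q : Set G)))
      ((QuotientGroup.mk' ((Subgroup.centralizer (R : Set G)).subgroupOf (Subgroup.normalizer (R : Set G)))).comp
        (((MulAut.conj h⁻¹).toMonoidHom.comp (Subgroup.normalizer (Q : Set G)).subtype).codRestrict _
          fun n => by simpa using hNQ n n.2))
      (fun c hc => (QuotientGroup.eq_one_iff _).2 (Subgroup.mem_subgroupOf.2 fun v hv => by
        have h1 := (Subgroup.mem_subgroupOf.1 hc) _ (hmemQ.1 hv)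
        show v * (h⁻¹ * (c : G) * h⁻¹⁻¹) = h⁻¹ * (c : G) * h⁻¹⁻¹ * v
        calc v * (h⁻¹ * (c : G) * h⁻¹⁻¹) = h⁻¹ * (h * v * h⁻¹ * (c : G)) * h := by group
          _ = h⁻¹ * ((c : G) * (h * v * h⁻¹)) * h := by rw [h1]
          _ = _ := by group))
    have hfs : Function.Surjective f := fun x => by
      obtain ⟨⟨n, hn⟩, rfl⟩ := QuotientGroup.mk_surjective x
      refine ⟨QuotientGroup.mk ⟨h * n * h⁻¹, mem_normalizer_of_map_conj_eq (Subgroup.eq_of_le_of_card_ge
        (map_conj_le fun x hx => by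
          obtain ⟨w, hw, rfl⟩ := hmap.ge hx
          show h * n * h⁻¹ * (h * w * h⁻¹) * (h * n * h⁻¹)⁻¹ ∈ Q
          rw [show h * n * h⁻¹ * (h * w * h⁻¹) * (h * n * h⁻¹)⁻¹ = h * (n * w * n⁻¹) * h⁻¹ by group]
          exact hmemQ.1 ((Subgroup.mem_normalizer_iff.1 hn w).1 hw))
        (Subgroup.card_map_of_injective (MulAut.conj (h * n * h⁻¹)).injective).ge)⟩, ?_⟩
      exact congrArg QuotientGroup.mk (Subtype.ext (by simp [mul_assoc]))
    have h1 : (pCore p _).map f ≤ pCore p _ :=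
      le_pCore (hN := Subgroup.Normal.map inferInstance f hfs) ((isPGroup_pCore p).map f)
    have h2 := h1 ⟨qg, hqg, rfl⟩
    convert h2 using 1
    exact congrArg QuotientGroup.mk (Subtype.ext (by simp [hg, mul_assoc]))

end CfsgLib.PStableControl
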