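import Mathlib
import Cfsg.Agent.Lib.PStableControl.Fusion
import Cfsg.Agent.Lib.Fusion.Normal
import Cfsg.Agent.Lib.Fusion.Center
import Cfsg.Agent.Lib.Fusion.ZJCriterion

/-!
The fusion system of a `p`-stable group, `p` odd, is constrained.
-/

set_option autoImplicit false
set_option linter.unusedSectionVars false

namespace CfsgLib.PStableControl

open CfsgLib CfsgLib.Local CfsgLib.StrongFusion Cfsg Cfsg.FusionSystem
open scoped commutatorElement

universe u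
variable {G : Type u} [Group G] [Finite G] {p : ℕ} [Fact p.Prime]

theorem isNormal_centerThompson (hp2 : p ≠ 2) (hst : IsNormalizerPStable p G) (P : Sylow p G) :
    (groupFusionSystem (P : Subgroup G)).IsNormal (centerThompsonAOf (P : Subgroup G)) := by
  have hZP : centerThompsonAOf (P : Subgroup G) ≤ (P : Subgroup G) := CfsgLib.ZJ.centerThompsonAOf_le _
  refine ⟨hZP, fun R φ hφ => ?_⟩
  obtain ⟨hR, hφS, g, hg⟩ := mem_groupFusionSystem_hom.1 hφ
  obtain ⟨x, hx, he⟩ := (controls_centerThompson hp2 hst P (A := (R : Set G)) hR).2 g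
    (by
      rintro _ ⟨a, ha, rfl⟩
      show g * a * g⁻¹ ∈ (P : Subgroup G)
      rw [← hg ⟨a, ha⟩]
      exact hφS ⟨a, ha⟩)
  refine ⟨conjHom _ x, conjHom_mem_groupFusionSystem (sup_le hR hZP) ?_, fun a => ?_, ?_⟩
  · intro a ha
    have h1 : (R ⊔ centerThompsonAOf (P : Subgroup G)).map (MulAut.conj x).toMonoidHom ≤ (P : Subgroup G) := by
      rw [Subgroup.map_sup]
      refine sup_le ?_ ((Local.map_conj_eq_of_mem_normalizer hx).le.trans hZP)
      rintro _ ⟨b, hb, rfl⟩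
      show x * b * x⁻¹ ∈ (P : Subgroup G)
      rw [← he b hb, ← hg ⟨b, hb⟩]
      exact hφS ⟨b, hb⟩
    exact h1 ⟨a, ha, rfl⟩
  · show x * (a : G) * x⁻¹ = φ a
    rw [hg, he a a.2]
  · ext y
    constructor
    · rintro ⟨a, ha, rfl⟩
      exact (Subgroup.mem_normalizer_iff.1 hx _).1 ha
    · intro hy
      have h1 : x⁻¹ * y * x ∈ centerThompsonAOf (P : Subgroup G) :=
        (Subgroup.mem_normalizer_iff''.1 hx y).1 hy
      exact ⟨⟨_, Subgroup.mem_sup_right h1⟩, h1, show x * (x⁻¹ * y * x) * x⁻¹ = y by group⟩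

theorem core_ne_bot (hp2 : p ≠ 2) (P : Sylow p G) (hP : (P : Subgroup G) ≠ ⊥)
    (hst : FusionPStable p (P : Subgroup G)) : (groupFusionSystem (P : Subgroup G)).core ≠ ⊥ := fun h =>
  CfsgLib.ZJ.centerThompsonAOf_ne_bot P.2 hP
    (le_bot_iff.1 ((isNormal_centerThompson hp2 ((isNormalizerPStable_iff_fusionPStable P).2 hst) P).le_core.trans h.le))

theorem isConstrained (hp2 : p ≠ 2) (P : Sylow p G) (hst : IsNormalizerPStable p G) :
    (groupFusionSystem (P : Subgroup G)).IsConstrained p := by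
  set F := groupFusionSystem (P : Subgroup G) with hF
  have hsat : F.IsSaturated p := groupFusionSystem_isSaturated P
  set Q := F.core with hQdef
  have hQn : F.IsNormal Q := isNormal_core F
  have hQP : Q ≤ (P : Subgroup G) := hQn.1
  have hPQ : (P : Subgroup G) ≤ Subgroup.normalizer (Q : Set G) := hQn.le_normalizer
  -- fusion is realised in the normalizer of the core
  have hext : ∀ (x g : G), x ∈ (P : Subgroup G) → g * x * g⁻¹ ∈ (P : Subgroup G) →
      ∃ y ∈ Subgroup.normalizer (Q : Set G), y * x * y⁻¹ = g * x * g⁻¹ := by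
    intro x g hx hgx
    have hmem : conjHom (Subgroup.zpowers x) g ∈ F.Hom (Subgroup.zpowers x) :=
      conjHom_mem_groupFusionSystem (Subgroup.zpowers_le.2 hx) (by
        rintro _ ⟨n, rfl⟩
        show g * x ^ n * g⁻¹ ∈ (P : Subgroup G)
        rw [← conj_zpow]; exact zpow_mem hgx n)
    obtain ⟨ψ, hψ, hψe, hψQ⟩ := hQn.2 _ _ hmem
    obtain ⟨-, -, y, hy⟩ := mem_groupFusionSystem_hom.1 hψ
    refine ⟨y, Local.mem_normalizer_of_map_conj_eq (Subgroup.eq_of_le_of_card_ge (Local.map_conj_le fun q hq => ?_)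
      (Subgroup.card_map_of_injective (MulAut.conj y).injective).ge), ?_⟩
    · rw [← hy ⟨q, Subgroup.mem_sup_right hq⟩]
      exact hψQ.le ⟨_, hq, rfl⟩
    · exact (hy ⟨x, Subgroup.mem_sup_left (Subgroup.mem_zpowers x)⟩).symm.trans (hψe ⟨x, Subgroup.mem_zpowers x⟩)
  set K := Subgroup.centralizer (Q : Set G) with hK
  set T := (P : Subgroup G) ⊓ K with hT
  set Z0 := Q ⊓ K with hZ0
  have hZT : Z0 ≤ T := inf_le_inf_right _ hQP
  have hKn : ∀ y ∈ Subgroup.normalizer (Q : Set G), ∀ k ∈ K, y * k * y⁻¹ ∈ K := by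
    intro y hy k hk q hq
    have h1 := hk _ ((Subgroup.mem_normalizer_iff''.1 hy q).1 hq)
    calc q * (y * k * y⁻¹) = y * ((y⁻¹ * q * y) * k) * y⁻¹ := by group
      _ = y * (k * (y⁻¹ * q * y)) * y⁻¹ := by rw [h1]
      _ = _ := by group
  have hZn : ∀ y ∈ Subgroup.normalizer (Q : Set G), ∀ z ∈ Z0, y * z * y⁻¹ ∈ Z0 := fun y hy z hz =>
    ⟨(Subgroup.mem_normalizer_iff.1 hy z).1 hz.1, hKn y hy z hz.2⟩
  haveI hZK : (Z0.subgroupOf K).Normal := ⟨fun z hz k => by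
    rw [Subgroup.mem_subgroupOf] at hz ⊢
    exact hZn _ (Subgroup.centralizer_le_normalizer _ k.2) _ hz⟩
  have hZc : ∀ z : K, (orderOf z).Coprime p → z ∈ Subgroup.centralizer ((Z0.subgroupOf K : Subgroup K) : Set K) :=
    fun z _ q hq => Subtype.ext (z.2 _ (Subgroup.mem_subgroupOf.1 hq).1)
  set N := Subgroup.normalizer (Q : Set G) with hN
  haveI : (K.subgroupOf N).Normal := ⟨fun k hk y => hKn _ y.2 _ hk⟩
  have hTK : T ≤ K := inf_le_right
  -- `T` is a Sylow subgroup of `K`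
  obtain ⟨PN, hPN⟩ : ∃ PN : Sylow p N, (PN : Subgroup N) = (P : Subgroup G).subgroupOf N :=
    ⟨(P.2.of_equiv (Subgroup.subgroupOfEquivOfLe hPQ).symm).toSylow
      (fun h => P.not_dvd_index (h.trans (Subgroup.relIndex_dvd_index_of_le hPQ))), rfl⟩
  set TK := sylowInfNormal PN (K.subgroupOf N)
  have hidx : ¬ p ∣ (T.subgroupOf K).index := by
    intro h
    apply TK.not_dvd_index
    have e : (TK : Subgroup (K.subgroupOf N)).index = (T.subgroupOf K).index := by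
      rw [coe_sylowInfNormal, hPN]
      show ((P : Subgroup G).subgroupOf N).relIndex (K.subgroupOf N) = T.relIndex K
      rw [Subgroup.relIndex_subgroupOf (Subgroup.centralizer_le_normalizer _), Subgroup.inf_relIndex_right]
    rwa [e]
  set TS : Sylow p K := ((P.2.to_le (inf_le_left : T ≤ (P : Subgroup G))).of_equiv
    (Subgroup.subgroupOfEquivOfLe hTK).symm).toSylow hidx with hTS
  set Zk := Z0.subgroupOf K
  set π := QuotientGroup.mk' Zk
  have hπs : Function.Surjective π := QuotientGroup.mk'_surjective Zk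
  set Tb : Sylow p (K ⧸ Zk) := TS.mapSurjective hπs
  have hstb : IsNormalizerPStable p (K ⧸ Zk) := isNormalizerPStable_quotient_p hp2 (Cfsg.Agent.S3836.result hst K)
    Zk ((P.2.to_le ((hZT.trans inf_le_left))).of_equiv (Subgroup.subgroupOfEquivOfLe (hZT.trans hTK)).symm) hZc
  set J := centerThompsonAOf (Tb : Subgroup (K ⧸ Zk)) with hJ
  have hJT : J ≤ (Tb : Subgroup (K ⧸ Zk)) := CfsgLib.ZJ.centerThompsonAOf_le _
  set W := (J.comap π).map K.subtype with hW
  have hmemT : ∀ {k : K}, π k ∈ (Tb : Subgroup (K ⧸ Zk)) → (k : G) ∈ T := by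
    rintro k ⟨t, ht, e⟩
    have h1 : t⁻¹ * k ∈ Zk := QuotientGroup.eq.1 e
    have h2 := T.mul_mem (Subgroup.mem_subgroupOf.1 ht) (hZT (Subgroup.mem_subgroupOf.1 h1))
    simpa using h2
  have hWT : W ≤ T := by
    rintro _ ⟨k, hk, rfl⟩
    exact hmemT (hJT hk)
  have hZW : Z0 ≤ W := fun z hz => ⟨⟨z, hz.2⟩, by
    show π ⟨z, hz.2⟩ ∈ J
    rw [show π ⟨z, hz.2⟩ = 1 from (QuotientGroup.eq_one_iff _).2 (Subgroup.mem_subgroupOf.2 hz)]
    exact J.one_mem, rfl⟩
  -- conjugation by `N` on the section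
  have hWn : ∀ y ∈ N, (∀ t ∈ T, y * t * y⁻¹ ∈ T) → ∀ w ∈ W, y * w * y⁻¹ ∈ W := by
    rintro y hy hyT _ ⟨k, hk, rfl⟩
    let c : K →* K := ((MulAut.conj y).toMonoidHom.comp K.subtype).codRestrict K fun k => hKn y hy k k.2
    let f := QuotientGroup.map Zk Zk c fun z hz => (Subgroup.mem_subgroupOf.2 (hZn y hy _ (Subgroup.mem_subgroupOf.1 hz)) : c z ∈ Zk)
    have hfs : Function.Surjective f := fun q => by
      obtain ⟨k, rfl⟩ := hπs q
      refine ⟨π ⟨y⁻¹ * k * y, by simpa using hKn y⁻¹ (inv_mem hy) k k.2⟩, ?_⟩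
      exact congrArg QuotientGroup.mk (Subtype.ext (show y * (y⁻¹ * (k : G) * y) * y⁻¹ = k by group))
    have hfi : Function.Injective f := Finite.injective_iff_surjective.2 hfs
    have hfT : (Tb : Subgroup (K ⧸ Zk)).map f = Tb := by
      refine Subgroup.eq_of_le_of_card_ge ?_ (Subgroup.card_map_of_injective hfi).ge
      rintro _ ⟨_, ⟨t, ht, rfl⟩, rfl⟩
      exact ⟨c t, hyT _ ht, rfl⟩
    have h1 : f (π k) ∈ J := by
      rw [hJ, ← hfT, CfsgLib.ZJ.centerThompsonAOf_map f hfi.injOn]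
      exact ⟨_, hk, rfl⟩
    exact ⟨c k, h1, rfl⟩
  have hsc0 : F.StronglyClosed Z0 := by
    refine ⟨inf_le_left.trans hQP, fun R hR φ hφ z => ?_⟩
    obtain ⟨-, hφS, g, hg⟩ := mem_groupFusionSystem_hom.1 hφ
    obtain ⟨y, hy, e⟩ := hext z g (hQP (hR z.2).1) (hg z ▸ hφS z)
    rw [hg, ← e]
    exact hZn y hy _ (hR z.2)
  have hscW : F.StronglyClosed W := by
    refine ⟨hWT.trans inf_le_left, fun R hR φ hφ w => ?_⟩
    obtain ⟨-, hφS, g, hg⟩ := mem_groupFusionSystem_hom.1 hφ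
    obtain ⟨y, hy, e⟩ := hext w g (hWT (hR w.2)).1 (hg w ▸ hφS w)
    rw [hg, ← e]
    have hyT : y * w * y⁻¹ ∈ T := ⟨e ▸ (hg w ▸ hφS w), hKn y hy _ (hWT (hR w.2)).2⟩
    -- Frattini
    have hfr := Sylow.normalizer_sup_eq_top TK
    obtain ⟨n, hn, k, hk, hnk⟩ := Subgroup.mem_sup_of_normal_right.1 (hfr.ge (Subgroup.mem_top (⟨y, hy⟩ : N)))
    have hnT : ∀ t ∈ T, (n : G) * t * (n : G)⁻¹ ∈ T := by
      intro t ht
      have htN : t ∈ N := hPQ ht.1
      have h1 : (⟨t, htN⟩ : N) ∈ (PN : Subgroup N) ⊓ K.subgroupOf N := ⟨hPN ▸ ht.1, ht.2⟩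
      have h2 := (Subgroup.mem_normalizer_iff.1 hn ⟨t, htN⟩).1 ⟨⟨⟨t, htN⟩, h1.2⟩, by
        rw [coe_sylowInfNormal]; exact h1.1, rfl⟩
      obtain ⟨⟨s, hs⟩, hsT, hse⟩ := h2
      rw [coe_sylowInfNormal] at hsT
      have hsT' : s ∈ (PN : Subgroup N) ⊓ K.subgroupOf N := ⟨hsT, hs⟩
      rw [show (n : G) * t * (n : G)⁻¹ = (s : G) from (congrArg Subtype.val hse).symm]
      exact ⟨(hPN ▸ hsT'.1 : s ∈ (P : Subgroup G).subgroupOf N), hs⟩
    set k' : K := ⟨(n : G) * k * (n : G)⁻¹, hKn _ n.2 _ hk⟩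
    obtain ⟨w', hw', hw'e⟩ := hWn _ n.2 hnT _ (hR w.2)
    have e2 : y * (w : G) * y⁻¹ = ((k' * w' * k'⁻¹ : K) : G) := by
      have hy' : y = (n : G) * k := (congrArg Subtype.val hnk).symm
      simp only [Subgroup.coe_mul, Subgroup.coe_inv]
      rw [show (w' : G) = (n : G) * w * (n : G)⁻¹ from hw'e, hy']
      simp only [k']
      group
    rw [e2] at hyT ⊢
    refine ⟨k' * w' * k'⁻¹, ?_, rfl⟩
    obtain ⟨x, hx, he⟩ := (controls_centerThompson hp2 hstb Tb (A := {π w'})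
      (Set.singleton_subset_iff.2 (hJT hw'))).2 (π k') (by
        rintro _ ⟨a, ha, rfl⟩
        rw [Set.mem_singleton_iff.1 ha]
        exact ⟨k' * w' * k'⁻¹, hyT, by simp⟩)
    show π (k' * w' * k'⁻¹) ∈ J
    rw [map_mul, map_mul, map_inv, he _ rfl]
    exact (Subgroup.mem_normalizer_iff.1 hx _).1 hw'
  have hWnormal : F.IsNormal W := by
    refine hsat.isNormal_of_series P.2 (n := 2) ![⊥, Z0, W] rfl rfl ?_ ?_
    · exact Fin.monotone_iff_le_succ.2 fun i => by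
        fin_cases i
        · exact bot_le
        · exact hZW
    · intro i
      fin_cases i
      · refine ⟨hsc0, ?_⟩
        show ⁅W, Z0⁆ ≤ ⊥
        rw [Subgroup.commutator_le]
        intro w hw z hz
        rw [Subgroup.mem_bot, commutatorElement_eq_one_iff_mul_comm]
        exact ((hWT hw).2 z hz.1).symm
      · refine ⟨hscW, ?_⟩
        show ⁅W, W⁆ ≤ Z0
        rw [Subgroup.commutator_le]
        rintro _ ⟨a, ha, rfl⟩ _ ⟨b, hb, rfl⟩
        have h1 : π ⁅a, b⁆ = 1 := by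
          rw [map_commutatorElement, commutatorElement_eq_one_iff_mul_comm]
          have hb' : π b ∈ centerThompsonAOf (Tb : Subgroup (K ⧸ Zk)) := hb
          rw [centerThompsonAOf] at hb'
          exact Subgroup.mem_centralizer_iff.1 hb'.2 _ ((show π a ∈ centerThompsonAOf (Tb : Subgroup (K ⧸ Zk)) from ha).1)
        exact Subgroup.mem_subgroupOf.1 ((QuotientGroup.eq_one_iff _).1 h1)
  have hWQ : W ≤ Q := hWnormal.le_core
  have hJb : J = ⊥ := by
    rw [eq_bot_iff]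
    intro q hq
    obtain ⟨k, rfl⟩ := hπs q
    exact Subgroup.mem_bot.2 ((QuotientGroup.eq_one_iff k).2 (Subgroup.mem_subgroupOf.2 ⟨hWQ ⟨k, hq, rfl⟩, k.2⟩))
  have hTQ : T ≤ Q := fun t ht => by
    have hTb : (Tb : Subgroup (K ⧸ Zk)) = ⊥ := by
      by_contra h; exact CfsgLib.ZJ.centerThompsonAOf_ne_bot Tb.2 h hJb
    have h1 : π ⟨t, ht.2⟩ ∈ (Tb : Subgroup (K ⧸ Zk)) := ⟨_, Subgroup.mem_subgroupOf.2 ht, rfl⟩
    rw [hTb, Subgroup.mem_bot] at h1
    exact (Subgroup.mem_subgroupOf.1 ((QuotientGroup.eq_one_iff _).1 h1)).1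
  refine ⟨hsat, Q, hQn, hQP, ?_⟩
  rintro R ⟨φ, hφ, rfl⟩
  have hle : φ.range ≤ Q := by rintro _ ⟨x, rfl⟩; exact hQn.stronglyClosed.2 Q le_rfl φ hφ x
  rw [Subgroup.eq_of_le_of_card_ge hle
    (Nat.card_congr (MonoidHom.ofInjective (F.injective_of_mem hφ)).toEquiv).le]
  exact hTQ

end CfsgLib.PStableControl
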