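import Mathlib
import Cfsg.Agent.Lib.PStableControl.Core
import Cfsg.Agent.Lib.Fusion.QdFree

/-!
Automisers without `SL₂(p)`-sections: the fusion system is constrained and its core is the least
centric radical subgroup.
-/

set_option autoImplicit false
set_option linter.unusedSectionVars false

namespace CfsgLib.PStableControl

open CfsgLib CfsgLib.Local Cfsg Cfsg.FusionSystem
open CfsgLib.QdSection (Vec act)
open scoped commutatorElement Matrix

universe u
variable {G : Type u} [Group G] [Finite G] {p : ℕ} [Fact p.Prime]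

/-- No automiser has a section `SL₂(p)`. -/
def AutSL2Free (p : ℕ) (G : Type u) [Group G] : Prop :=
  ∀ Q : Subgroup G, IsPGroup p ↥Q → ¬ ∃ (H K : Subgroup G) (_ : (K.subgroupOf H).Normal),
    Subgroup.centralizer (Q : Set G) ≤ K ∧ K ≤ H ∧ H ≤ Subgroup.normalizer (Q : Set G) ∧
    Nonempty ((↥H ⧸ K.subgroupOf H) ≃* Matrix.SpecialLinearGroup (Fin 2) (ZMod p))

theorem isNormalizerPStable_of_autFree (hp2 : p ≠ 2) (hfree : AutSL2Free p G) : IsNormalizerPStable p G := by
  intro P hP g hg hq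
  by_contra hout
  obtain ⟨X, Y, e, -, hYP, he, -, hM⟩ := exists_bottom_witness hp2 hP le_rfl hg (Quadratic.quad_pointwise hq) hout
  refine hfree Y (hP.to_le hYP) ?_
  set N := Subgroup.normalizer (Y : Set G) with hN
  let α : N →* MulAut Y := Y.normalizerMonoidHom
  have hsl : ∀ M M' : Matrix.SpecialLinearGroup (Fin 2) (ZMod p), (∀ v : Vec p, act M v = act M' v) → M = M' := by
    intro M M' h
    refine Matrix.SpecialLinearGroup.ext _ _ fun i j => ?_
    have h1 := congrFun (congrArg Multiplicative.toAdd (h (Multiplicative.ofAdd (Pi.single j 1)))) i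
    simpa [act, Matrix.mulVec_single] using h1
  let S : Subgroup (N × Matrix.SpecialLinearGroup (Fin 2) (ZMod p)) :=
    { carrier := {x | ∀ y : Y, e (α x.1 y) = act x.2 (e y)}
      one_mem' := fun y => by rw [Prod.fst_one, Prod.snd_one, map_one, MulAut.one_apply, QdSection.act_one]
      mul_mem' := fun {x x'} hx hx' y => by
        rw [Prod.fst_mul, Prod.snd_mul, map_mul, MulAut.mul_apply, hx, hx', ← QdSection.act_mul]
      inv_mem' := fun {x} hx y => by
        have h1 := hx ((α x.1)⁻¹ y)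
        rw [MulAut.apply_inv_self] at h1
        rw [Prod.fst_inv, Prod.snd_inv, map_inv, h1, ← QdSection.act_mul, inv_mul_cancel, QdSection.act_one] }
  let proj : S →* G := (N.subtype.comp (MonoidHom.fst N _)).comp S.subtype
  have hproj : Function.Injective proj := by
    intro x x' h
    have h1 : x.1.1 = x'.1.1 := Subtype.ext h
    refine Subtype.ext (Prod.ext h1 (hsl _ _ fun v => ?_))
    obtain ⟨y, rfl⟩ := he v
    rw [← x.2 y, ← x'.2 y, h1]
  let φ : proj.range →* Matrix.SpecialLinearGroup (Fin 2) (ZMod p) :=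
    ((MonoidHom.snd N _).comp S.subtype).comp (MonoidHom.ofInjective hproj).symm.toMonoidHom
  have hφs : Function.Surjective φ := by
    intro M
    obtain ⟨g, ⟨-, hgN⟩, hg⟩ := hM M
    refine ⟨MonoidHom.ofInjective hproj ⟨(⟨g, hgN⟩, M), fun y => hg y (α ⟨g, hgN⟩ y).2⟩, ?_⟩
    simp [φ]
  have hval : ∀ x : S, φ (MonoidHom.ofInjective hproj x) = x.1.2 := fun x => by simp [φ]
  have hK : (φ.ker.map proj.range.subtype).subgroupOf proj.range = φ.ker :=
    Subgroup.comap_map_eq_self_of_injective proj.range.subtype_injective _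
  haveI hKn : ((φ.ker.map proj.range.subtype).subgroupOf proj.range).Normal := by rw [hK]; infer_instance
  refine ⟨proj.range, φ.ker.map proj.range.subtype, hKn, ?_, Subgroup.map_subtype_le _, ?_,
    ⟨(QuotientGroup.quotientMulEquivOfEq hK).trans (QuotientGroup.quotientKerEquivOfSurjective φ hφs)⟩⟩
  · intro c hc
    have hcN : c ∈ N := Subgroup.centralizer_le_normalizer _ hc
    have hmem : ((⟨c, hcN⟩, 1) : N × Matrix.SpecialLinearGroup (Fin 2) (ZMod p)) ∈ S := fun y => by
      show e (α ⟨c, hcN⟩ y) = act 1 (e y)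
      rw [QdSection.act_one]
      exact congrArg e (Subtype.ext (show c * (y : G) * c⁻¹ = y by rw [← hc y y.2, mul_inv_cancel_right]))
    exact ⟨MonoidHom.ofInjective hproj ⟨_, hmem⟩, hval _, rfl⟩
  · rintro _ ⟨x, rfl⟩
    exact x.1.1.2

theorem isCentric_iff_sylow (P : Sylow p G) {R : Subgroup G} (hR : R ≤ (P : Subgroup G)) :
    (groupFusionSystem (P : Subgroup G)).IsCentric R ↔
      ∃ T : Sylow p ↥(Subgroup.centralizer (R : Set G)),
        (T : Subgroup ↥(Subgroup.centralizer (R : Set G))).map (Subgroup.centralizer (R : Set G)).subtype =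
          R ⊓ Subgroup.centralizer (R : Set G) := by
  constructor
  · intro hc
    obtain ⟨g, hQ, hN⟩ := exists_conj_isSylowIn P hR
    have hc' : (groupFusionSystem (P : Subgroup G)).IsCentric (R.map (MulAut.conj g).toMonoidHom) :=
      hc.of_isConj (isConj_groupFusionSystem_iff.2 ⟨hR, hQ, g, rfl⟩)
    have hS := centralizerIn_isSylowIn hN
    set Q := R.map (MulAut.conj g).toMonoidHom with hQd
    have hceq : (Subgroup.centralizer (R : Set G)).map (MulAut.conj g).toMonoidHom = Subgroup.centralizer (Q : Set G) := by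
      ext x
      constructor
      · rintro ⟨c, hc, rfl⟩ _ ⟨r, hr, rfl⟩
        show MulAut.conj g r * MulAut.conj g c = MulAut.conj g c * MulAut.conj g r
        rw [← map_mul, ← map_mul, hc r hr]
      · intro hx
        refine ⟨g⁻¹ * x * g, fun r hr => ?_, by simp [mul_assoc]⟩
        have h1 := hx _ (show MulAut.conj g r ∈ Q from ⟨r, hr, rfl⟩)
        rw [MulAut.conj_apply] at h1
        calc r * (g⁻¹ * x * g) = g⁻¹ * (g * r * g⁻¹ * x) * g := by group
          _ = g⁻¹ * (x * (g * r * g⁻¹)) * g := by rw [h1]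
          _ = _ := by group
    have hZ : centralizerIn (P : Subgroup G) Q =
        (R ⊓ Subgroup.centralizer (R : Set G)).map (MulAut.conj g).toMonoidHom := by
      rw [Subgroup.map_inf _ _ _ (MulAut.conj g).injective, hceq]
      exact le_antisymm (le_inf hc'.centralizerIn_le_self inf_le_right) (inf_le_inf_right _ hQ)
    have hSR : IsSylowIn p (R ⊓ Subgroup.centralizer (R : Set G)) (Subgroup.centralizer (R : Set G)) := by
      refine ⟨inf_le_right, P.2.to_le (inf_le_left.trans hR), ?_⟩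
      rw [← Subgroup.relIndex_map_map_of_injective _ _ (f := (MulAut.conj g).toMonoidHom) (MulAut.conj g).injective,
        ← hZ, hceq]
      exact hS.2.2
    obtain ⟨T, hT⟩ := (isSylowIn_iff inf_le_right).1 hSR
    exact ⟨T, by rw [hT, Subgroup.subgroupOf_map_subtype, inf_assoc, inf_idem]⟩
  · intro hsyl
    refine ⟨hR, fun Q hQ => ?_⟩
    obtain ⟨-, hQP, g, rfl⟩ := isConj_groupFusionSystem_iff.1 hQ
    intro x hx
    set C := Subgroup.centralizer (R : Set G) with hC
    obtain ⟨T, hT⟩ := hsyl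
    set A := (centralizerIn (P : Subgroup G) (R.map (MulAut.conj g).toMonoidHom)).map (MulAut.conj g⁻¹).toMonoidHom with hA
    have hAp : IsPGroup p A := (P.2.to_le inf_le_left).map _
    have hAC : A ≤ C := by
      rintro _ ⟨a, ha, rfl⟩ r hr
      have h1 := ha.2 _ ⟨r, hr, rfl⟩
      show r * (g⁻¹ * a * g⁻¹⁻¹) = g⁻¹ * a * g⁻¹⁻¹ * r
      rw [MulEquiv.coe_toMonoidHom, MulAut.conj_apply] at h1
      calc r * (g⁻¹ * a * g⁻¹⁻¹) = g⁻¹ * (g * r * g⁻¹ * a) * g := by group
        _ = g⁻¹ * (a * (g * r * g⁻¹)) * g := by rw [h1]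
        _ = _ := by group
    have hZA : (T : Subgroup C) ≤ A.subgroupOf C := by
      intro z hz
      have hz' : (z : G) ∈ R ⊓ C := hT ▸ Subgroup.mem_map_of_mem _ hz
      refine ⟨g * z * g⁻¹, ⟨hQP ⟨z, hz'.1, rfl⟩, ?_⟩, by simp [mul_assoc]⟩
      rintro _ ⟨r, hr, rfl⟩
      show g * r * g⁻¹ * (g * z * g⁻¹) = g * z * g⁻¹ * (g * r * g⁻¹)
      calc g * r * g⁻¹ * (g * z * g⁻¹) = g * (r * z) * g⁻¹ := by group
        _ = g * (z * r) * g⁻¹ := by rw [hz'.2 r hr]
        _ = _ := by group
    have he := T.3 (hAp.of_equiv (Subgroup.subgroupOfEquivOfLe hAC).symm) hZA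
    have h2 : g⁻¹ * x * g ∈ R ⊓ C := by
      have hm : g⁻¹ * x * g ∈ A := ⟨x, hx, by simp⟩
      rw [← hT]
      exact ⟨⟨_, hAC hm⟩, he.le (Subgroup.mem_subgroupOf.2 hm), rfl⟩
    exact ⟨_, h2.1, show g * (g⁻¹ * x * g) * g⁻¹ = x by group⟩

theorem isRadical_iff_relIndex (P : Sylow p G) {R : Subgroup G} (hR : R ≤ (P : Subgroup G)) :
    (groupFusionSystem (P : Subgroup G)).IsRadical p R ↔
      ∀ X : Subgroup G, X ≤ Subgroup.normalizer (R : Set G) →
        (∀ n ∈ Subgroup.normalizer (R : Set G), X.map (MulAut.conj n).toMonoidHom = X) →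
        R ⊔ Subgroup.centralizer (R : Set G) ≤ X →
        (∃ k : ℕ, (R ⊔ Subgroup.centralizer (R : Set G)).relIndex X = p ^ k) →
        X = R ⊔ Subgroup.centralizer (R : Set G) := by
  set N := Subgroup.normalizer (R : Set G) with hN
  set C := Subgroup.centralizer (R : Set G) with hC
  set A := (groupFusionSystem (P : Subgroup G)).autGroup R with hA
  obtain ⟨e, he⟩ := exists_autEquiv hR
  haveI : Finite A := Finite.of_equiv _ e.toEquiv
  have hD : R ⊔ C ≤ N := sup_le Subgroup.le_normalizer (Subgroup.centralizer_le_normalizer _)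
  let π : N →* A := e.toMonoidHom.comp (QuotientGroup.mk' _)
  have hπs : Function.Surjective π := e.surjective.comp (QuotientGroup.mk'_surjective _)
  have hπ : ∀ (n : N) (x : R), (((π n : MulAut R) x : R) : G) = (n : G) * x * (n : G)⁻¹ := he
  -- the preimage of the inner automorphisms
  have hInn : ∀ n : N, (n : G) ∈ R ⊔ C ↔ (π n : MulAut R) ∈ Inn R := by
    intro n
    constructor
    · intro hn
      haveI : (C.subgroupOf N).Normal := ⟨fun c hc y => by
        intro r hr
        have h1 : (y : G)⁻¹ * r * y * c = c * ((y : G)⁻¹ * r * y) :=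
          (Subgroup.mem_subgroupOf.1 hc) _ ((Subgroup.mem_normalizer_iff''.1 y.2 r).1 hr)
        show r * ((y : G) * c * (y : G)⁻¹) = (y : G) * c * (y : G)⁻¹ * r
        calc r * ((y : G) * c * (y : G)⁻¹) = (y : G) * ((y : G)⁻¹ * r * y * c) * (y : G)⁻¹ := by group
          _ = (y : G) * (c * ((y : G)⁻¹ * r * y)) * (y : G)⁻¹ := by rw [h1]
          _ = _ := by group⟩
      have hn' : n ∈ R.subgroupOf N ⊔ C.subgroupOf N := by
        rw [← Subgroup.subgroupOf_sup Subgroup.le_normalizer (Subgroup.centralizer_le_normalizer _)]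
        exact hn
      obtain ⟨r, hr, c, hc, rfl⟩ := Subgroup.mem_sup_of_normal_right.1 hn'
      refine ⟨⟨r, hr⟩, MulEquiv.ext fun x => Subtype.ext ?_⟩
      show (r : G) * x * (r : G)⁻¹ = _
      rw [hπ]
      show (r : G) * x * (r : G)⁻¹ = (r : G) * c * x * ((r : G) * c)⁻¹
      calc (r : G) * x * (r : G)⁻¹ = (r : G) * ((x : G) * c) * ((r : G) * c)⁻¹ := by group
        _ = (r : G) * ((c : G) * x) * ((r : G) * c)⁻¹ := by rw [(Subgroup.mem_subgroupOf.1 hc) x x.2]
        _ = _ := by group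
    · rintro ⟨r, hr⟩
      have h1 : (r : G)⁻¹ * n ∈ C := by
        intro x hx
        have h2 := hπ n ⟨x, hx⟩
        rw [← hr] at h2
        change (r : G) * x * (r : G)⁻¹ = (n : G) * x * (n : G)⁻¹ at h2
        calc x * ((r : G)⁻¹ * n) = (r : G)⁻¹ * ((r : G) * x * (r : G)⁻¹) * n := by group
          _ = (r : G)⁻¹ * n * x := by rw [h2]; group
      have := mul_mem (Subgroup.mem_sup_left r.2 : (r : G) ∈ R ⊔ C) (Subgroup.mem_sup_right h1 : (r : G)⁻¹ * n ∈ R ⊔ C)
      simpa using this
  constructor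
  · rintro ⟨-, hrad⟩ X hXN hXinv hDX ⟨k, hk⟩
    refine le_antisymm (fun x hx => ?_) hDX
    rw [hInn ⟨x, hXN hx⟩, ← hrad]
    refine ⟨π ⟨x, hXN hx⟩, ?_, rfl⟩
    set I := (X.subgroupOf N).map π with hI
    haveI : (X.subgroupOf N).Normal := ⟨fun y hy n => (hXinv n n.2).le ⟨_, hy, rfl⟩⟩
    haveI : I.Normal := Subgroup.Normal.map inferInstance π hπs
    refine le_pCore (N := I) ?_ ⟨_, hx, rfl⟩
    -- `R C(R)` maps onto a `p`-group of `p`-power index in the image
    set I₀ := ((R ⊔ C).subgroupOf N).map π with hI₀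
    have h0 : IsPGroup p I₀ := by
      refine IsPGroup.of_injective (?_ : IsPGroup p (I₀.map A.subtype)) (I₀.equivMapOfInjective _ A.subtype_injective).toMonoidHom
        (MulEquiv.injective _)
      refine IsPGroup.to_le (K := Inn R) ((inn_eq_autInducedBy R).symm ▸ isPGroup_autInducedBy (P.2.to_le hR)) ?_
      rintro _ ⟨_, ⟨n, hn, rfl⟩, rfl⟩
      exact (hInn n).1 hn
    obtain ⟨a, ha⟩ := h0.exists_card_eq
    have hle : I₀ ≤ I := Subgroup.map_mono (Subgroup.comap_mono hDX)
    have hdvd : I₀.relIndex I ∣ p ^ k := by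
      have hker : π.ker ≤ (R ⊔ C).subgroupOf N := fun n hn => by
        refine (hInn n).2 ?_
        rw [show π n = 1 from hn]
        exact one_mem _
      rw [← hk, ← Subgroup.relIndex_subgroupOf hXN, hI₀, hI, Subgroup.relIndex_map_map π, sup_eq_left.2 hker,
        sup_eq_left.2 (hker.trans (Subgroup.comap_mono hDX) : π.ker ≤ X.subgroupOf N)]
    obtain ⟨b, -, hb⟩ := (Nat.dvd_prime_pow (Fact.out : p.Prime)).1 hdvd
    refine IsPGroup.of_card (n := a + b) ?_
    have h2 := Subgroup.relIndex_mul_relIndex ⊥ I₀ I bot_le hle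
    rw [Subgroup.relIndex_bot_left, Subgroup.relIndex_bot_left, ha, hb] at h2
    rw [← h2, pow_add]
  · intro h
    refine ⟨hR, le_antisymm ?_ ?_⟩
    · set X := ((pCore p A).comap π).map N.subtype with hX
      have hXn : X = R ⊔ C := by
        refine h X (Subgroup.map_subtype_le _) (fun n hn => Subgroup.eq_of_le_of_card_ge ?_
          (Subgroup.card_map_of_injective (MulAut.conj n).injective).ge) (fun x hx => ?_) ?_
        · rintro _ ⟨_, ⟨y, hy, rfl⟩, rfl⟩
          exact ⟨_, (inferInstance : ((pCore p A).comap π).Normal).conj_mem y hy ⟨n, hn⟩, rfl⟩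
        · refine ⟨⟨x, hD hx⟩, ?_, rfl⟩
          have hp' : IsPGroup p ((Inn R).subgroupOf A) :=
            ((inn_eq_autInducedBy R).symm ▸ isPGroup_autInducedBy (P.2.to_le hR) : IsPGroup p (Inn R)).of_equiv
              (Subgroup.subgroupOfEquivOfLe (inn_le_autGroup hR)).symm
          haveI : (Inn R).Normal := inferInstanceAs (MulAut.conj (G := R)).range.Normal
          exact le_pCore (N := (Inn R).subgroupOf A) hp' ((hInn ⟨x, hD hx⟩).1 hx)
        · obtain ⟨a, ha⟩ := (isPGroup_pCore (G := A) p).exists_card_eq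
          have hker : π.ker ≤ (R ⊔ C).subgroupOf N := fun n hn => by
            refine (hInn n).2 ?_
            rw [show π n = 1 from hn]
            exact one_mem _
          have hdvd : (R ⊔ C).relIndex X ∣ p ^ a := by
            have e1 : R ⊔ C = ((R ⊔ C).subgroupOf N).map N.subtype := by
              rw [Subgroup.subgroupOf_map_subtype, inf_eq_left.2 hD]
            rw [e1, hX, Subgroup.relIndex_map_map_of_injective _ _ N.subtype_injective, ← ha]
            refine (Subgroup.relIndex_dvd_of_le_left _ hker).trans ?_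
            rw [← MonoidHom.comap_bot, Subgroup.relIndex_comap, Subgroup.map_comap_eq_self_of_surjective hπs,
              Subgroup.relIndex_bot_left]
          obtain ⟨k, -, hk⟩ := (Nat.dvd_prime_pow (Fact.out : p.Prime)).1 hdvd
          exact ⟨k, hk⟩
      rintro _ ⟨a, ha, rfl⟩
      obtain ⟨n, rfl⟩ := hπs a
      exact (hInn n).1 (hXn ▸ ⟨n, ha, rfl⟩)
    · intro a ha
      have hp' : IsPGroup p ((Inn R).subgroupOf A) :=
        ((inn_eq_autInducedBy R).symm ▸ isPGroup_autInducedBy (P.2.to_le hR) : IsPGroup p (Inn R)).of_equiv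
          (Subgroup.subgroupOfEquivOfLe (inn_le_autGroup hR)).symm
      haveI : (Inn R).Normal := inferInstanceAs (MulAut.conj (G := R)).range.Normal
      exact ⟨⟨a, inn_le_autGroup hR ha⟩, le_pCore (N := (Inn R).subgroupOf A) hp' ha, rfl⟩

theorem exists_least_centricRadical (hp2 : p ≠ 2) (P : Sylow p G) (hfree : AutSL2Free p G) :
    ∃ Q : Subgroup G, (groupFusionSystem (P : Subgroup G)).IsCentric Q ∧
      (groupFusionSystem (P : Subgroup G)).IsRadical p Q ∧
      (∀ R : Subgroup G, (groupFusionSystem (P : Subgroup G)).IsCentric R →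
        (groupFusionSystem (P : Subgroup G)).IsRadical p R → Q ≤ R) ∧
      (P : Subgroup G) ≤ Subgroup.normalizer (Q : Set G) ∧
      ∀ A : Subgroup G, A ≤ (P : Subgroup G) → ∀ g : G, A.map (MulAut.conj g).toMonoidHom ≤ (P : Subgroup G) →
        ∃ h ∈ Subgroup.normalizer (Q : Set G), ∃ c ∈ Subgroup.centralizer (A : Set G), g = h * c := by
  obtain ⟨hsat, Q', hQ'n, hQ'c⟩ := isConstrained hp2 P (isNormalizerPStable_of_autFree hp2 hfree)
  set F := groupFusionSystem (P : Subgroup G) with hF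
  set Q := F.core with hQ
  have hQn : F.IsNormal Q := isNormal_core F
  have hQc : F.IsCentric Q := isCentric_of_le hQ'c hQ'n.le_core hQn.1
  have hPQ := hQn.le_normalizer
  have hfn : F.IsFullyNormalized Q := by
    refine ⟨hQn.1, ?_⟩
    rintro R ⟨φ, hφ, rfl⟩
    have hle : φ.range ≤ Q := by rintro _ ⟨x, rfl⟩; exact hQn.stronglyClosed.2 Q le_rfl φ hφ x
    rw [Subgroup.eq_of_le_of_card_ge hle
      (Nat.card_congr (MonoidHom.ofInjective (F.injective_of_mem hφ)).toEquiv).le]
  have hrad : F.IsRadical p Q := by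
    refine hsat.isRadical_of_core_normalizer P.2 hfn hQc ?_
    suffices ∀ T : Subgroup G, T = (P : Subgroup G) → ∀ E : FusionSystem T,
        (∀ R, E.Hom R = F.Hom R) → E.core = Q from
      this _ (inf_eq_left.2 hPQ) _ fun R => (hQn.hom_eq_normalizerHom R).symm
    rintro T rfl E hE
    rw [hom_ext (E := E) (E' := F) hE]
  refine ⟨Q, hQc, hrad, fun R hc hr => hQn.le_of_centric_radical P.2 hc hr, hPQ, fun A hA g hg => ?_⟩
  obtain ⟨ψ, hψ, hψe, hψQ⟩ := hQn.2 A (conjHom A g)
    (conjHom_mem_groupFusionSystem hA fun x hx => hg ⟨x, hx, rfl⟩)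
  obtain ⟨-, -, h, hh⟩ := mem_groupFusionSystem_hom.1 hψ
  refine ⟨h, Local.mem_normalizer_of_map_conj_eq (Subgroup.eq_of_le_of_card_ge (Local.map_conj_le fun q hq => ?_)
    (Subgroup.card_map_of_injective (MulAut.conj h).injective).ge), h⁻¹ * g, fun a ha => ?_, by group⟩
  · rw [← hh ⟨q, Subgroup.mem_sup_right hq⟩]
    exact hψQ.le ⟨_, hq, rfl⟩
  · have h1 : h * a * h⁻¹ = g * a * g⁻¹ :=
      (hh ⟨a, Subgroup.mem_sup_left ha⟩).symm.trans (hψe ⟨a, ha⟩)
    calc a * (h⁻¹ * g) = h⁻¹ * (h * a * h⁻¹) * g := by group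
      _ = h⁻¹ * g * a := by rw [h1]; group

end CfsgLib.PStableControl
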